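import Mathlib

set_option autoImplicit false

namespace Groth.Agent.AxKatzLib

open Finset Nat

/-- digits rotated modulo `p ^ f - 1` -/
def rot (p f : ℕ) : List ℕ → ℕ → ℕ
  | [], _ => 0
  | a :: l, i => a * p ^ (i % f) + rot p f l (i + 1)

theorem rot_add (p f : ℕ) (l : List ℕ) (i : ℕ) : rot p f l (i + f) = rot p f l i := by
  induction l generalizing i with
  | nil => rfl
  | cons a l ih => rw [rot, rot, Nat.add_mod_right, show i + f + 1 = i + 1 + f by omega, ih]

theorem sum_shift (f : ℕ) (g : ℕ → ℕ) (hg : ∀ i, g (i + f) = g i) :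
    ∑ i ∈ range f, g (i + 1) = ∑ i ∈ range f, g i := by
  have h1 := Finset.sum_range_succ g f
  have h2 := Finset.sum_range_succ' g f
  have h3 : g f = g 0 := by simpa using hg 0
  omega

theorem sum_rot (p f : ℕ) (hp : 1 ≤ p) (l : List ℕ) :
    (p - 1) * ∑ i ∈ range f, rot p f l i = l.sum * (p ^ f - 1) := by
  induction l with
  | nil => simp [rot]
  | cons a l ih =>
    have h1 : ∑ i ∈ range f, rot p f (a :: l) i
        = a * ∑ i ∈ range f, p ^ i + ∑ i ∈ range f, rot p f l i := by
      rw [← sum_shift f (rot p f l) (rot_add p f l), mul_sum, ← sum_add_distrib]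
      refine sum_congr rfl fun i hi => ?_
      rw [rot, Nat.mod_eq_of_lt (mem_range.mp hi)]
    have h2 : (p - 1) * ∑ i ∈ range f, p ^ i = p ^ f - 1 := by
      obtain ⟨r, rfl⟩ := Nat.exists_eq_add_of_le' hp
      have := geom_sum_mul_add r f
      simp only [Nat.add_sub_cancel]
      rw [← this]
      rw [mul_comm r]
      omega
    rw [h1, mul_add, ih, mul_left_comm, h2, List.sum_cons, add_mul]

theorem rot_cast (p f m : ℕ) (hm : p ^ f = m + 1) (l : List ℕ) (i : ℕ) :
    (rot p f l i : ZMod m) = (p : ZMod m) ^ i * (Nat.ofDigits p l : ℕ) := by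
  have h1 : (p : ZMod m) ^ f = 1 := by
    rw [← Nat.cast_pow, hm, Nat.cast_add, ZMod.natCast_self, zero_add, Nat.cast_one]
  induction l generalizing i with
  | nil => simp [rot, Nat.ofDigits]
  | cons a l ih =>
    rw [rot, Nat.ofDigits, Nat.cast_add, ih, Nat.cast_mul, Nat.cast_pow, ← pow_eq_pow_mod i h1]
    push_cast
    ring

theorem ofDigits_eq_zero_of_rot (p f : ℕ) (hp : 1 ≤ p) (l : List ℕ) (i : ℕ)
    (h : rot p f l i = 0) : Nat.ofDigits p l = 0 := by
  induction l generalizing i with
  | nil => rfl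
  | cons a l ih =>
    rw [rot, Nat.add_eq_zero_iff] at h
    have ha : a = 0 := by
      rcases Nat.mul_eq_zero.mp h.1 with h1 | h1
      · exact h1
      · exact absurd h1 (Nat.pos_iff_ne_zero.mp (pow_pos hp _))
    rw [Nat.ofDigits, ih _ h.2, ha]
    simp

theorem digits_sum_pred_pow_mul (p : ℕ) (hp : 1 < p) (f M : ℕ) :
    (p.digits ((p ^ f - 1) * p ^ M)).sum = f * (p - 1) := by
  have h0 : ∀ g, (p.digits (p ^ g - 1)).sum = g * (p - 1) := by
    intro g
    induction g with
    | zero => simp
    | succ g ih =>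
      have hpg : 1 ≤ p ^ g := Nat.one_le_pow _ _ (by omega)
      have he : p ^ (g + 1) - 1 = (p - 1) + p * (p ^ g - 1) := by
        have h2 : p ≤ p * p ^ g := by nlinarith
        rw [pow_succ', Nat.mul_sub, mul_one]
        omega
      rw [he, Nat.digits_add p hp (p - 1) _ (by omega) (Or.inl (by omega)), List.sum_cons, ih]
      ring
  induction M with
  | zero => simpa using h0 f
  | succ M ih =>
    by_cases hz : (p ^ f - 1) * p ^ M = 0
    · rw [hz] at ih
      have hf : (p ^ f - 1) * p ^ (M + 1) = 0 := by rw [pow_succ, ← mul_assoc, hz, zero_mul]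
      rw [hf]; exact ih
    · have he : (p ^ f - 1) * p ^ (M + 1) = 0 + p * ((p ^ f - 1) * p ^ M) := by ring
      rw [he, Nat.digits_add p hp 0 _ (by omega) (Or.inr hz), List.sum_cons, zero_add, ih]

theorem sum_multinomial_val {α : Type*} (p : ℕ) [hp : Fact p.Prime] (s : Finset α) (k : α → ℕ) :
    (p - 1) * padicValNat p (Nat.multinomial s k) + (p.digits (∑ u ∈ s, k u)).sum =
      ∑ u ∈ s, (p.digits (k u)).sum := by
  classical
  induction s using Finset.induction_on with
  | empty => simp
  | insert a s ha ih =>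
    rw [Nat.multinomial_insert ha, sum_insert ha, sum_insert ha, ← ih]
    have hc : Nat.choose (k a + ∑ i ∈ s, k i) (k a) ≠ 0 :=
      (Nat.choose_pos (Nat.le_add_right _ _)).ne'
    have hm : Nat.multinomial s k ≠ 0 := (Nat.multinomial_pos s k).ne'
    rw [padicValNat.mul hc hm, mul_add]
    have h := Nat.choose_mul_factorial_mul_factorial
      (Nat.le_add_right (k a) (∑ i ∈ s, k i))
    rw [Nat.add_sub_cancel_left] at h
    have hv := congrArg (padicValNat p) h
    rw [padicValNat.mul (mul_ne_zero hc (Nat.factorial_ne_zero _)) (Nat.factorial_ne_zero _),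
      padicValNat.mul hc (Nat.factorial_ne_zero _)] at hv
    have hv' := congrArg ((p - 1) * ·) hv
    simp only [mul_add] at hv'
    rw [sub_one_mul_padicValNat_factorial, sub_one_mul_padicValNat_factorial,
      sub_one_mul_padicValNat_factorial] at hv'
    have l1 := Nat.digit_sum_le p (k a)
    have l2 := Nat.digit_sum_le p (∑ i ∈ s, k i)
    have l3 := Nat.digit_sum_le p (k a + ∑ i ∈ s, k i)
    omega

end Groth.Agent.AxKatzLib
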